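import Mathlib.RingTheory.Kaehler.Basic
import Mathlib.Algebra.CharZero.Defs

/-!
Exactness at the last places of the resolutions of invariants of the big diagonal on the symmetric cube.
-/

set_option autoImplicit false

universe u v

open scoped TensorProduct

namespace Groth.Agent.DiagIdealLib

variable {k : Type u} [Field k] {A : Type v} [CommRing A] [Algebra k A]

/-- The typical element of the square of the diagonal ideal. -/
noncomputable def sqGen (x b c : A) : A ⊗[k] A :=
  x ⊗ₜ (b * c) - (x * c) ⊗ₜ b - (x * b) ⊗ₜ c + (x * b * c) ⊗ₜ 1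

/-- A subspace containing the typical elements contains the square of the diagonal ideal. -/
theorem sq_le (U : Submodule k (A ⊗[k] A)) (hU : ∀ x b c : A, sqGen x b c ∈ U) {z : A ⊗[k] A}
    (hz : z ∈ KaehlerDifferential.ideal k A ^ 2) : z ∈ U := by
  set δ : A → A ⊗[k] A := fun a => (1 : A) ⊗ₜ a - a ⊗ₜ (1 : A)
  have h1 : ∀ (w : A ⊗[k] A) (b c : A), w * (δ b * δ c) ∈ U := by
    intro w b c
    induction w using TensorProduct.induction_on with
    | zero => rw [zero_mul]; exact zero_mem _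
    | add u v hu hv => rw [add_mul]; exact add_mem hu hv
    | tmul x y =>
        have h : (x ⊗ₜ[k] y) * (δ b * δ c) = sqGen x (y * b) c - sqGen (x * b) y c := by
          simp only [δ, sqGen, mul_sub, sub_mul, Algebra.TensorProduct.tmul_mul_tmul, one_mul, mul_one]
          ring_nf
        rw [h]
        exact sub_mem (hU _ _ _) (hU _ _ _)
  rw [pow_two, ← KaehlerDifferential.span_range_eq_ideal k A] at hz
  refine Submodule.mul_induction_on hz (fun f hf g hg => ?_) (fun _ _ h h' => add_mem h h')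
  suffices h : ∀ w, w * (f * g) ∈ U by simpa using h 1
  clear hz
  induction hf using Submodule.span_induction with
  | zero => intro w; simp
  | add a a' _ _ ha ha' => intro w; rw [add_mul, mul_add]; exact add_mem (ha w) (ha' w)
  | smul r a _ ha => intro w; rw [smul_eq_mul, mul_assoc r, ← mul_assoc w]; exact ha _
  | mem a ha =>
      obtain ⟨b, rfl⟩ := ha
      induction hg using Submodule.span_induction with
      | zero => intro w; simp
      | add a a' _ _ ha ha' => intro w; rw [mul_add, mul_add]; exact add_mem (ha w) (ha' w)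
      | smul r a _ ha => intro w; rw [smul_eq_mul, mul_left_comm _ r, ← mul_assoc w]; exact ha _
      | mem a ha => obtain ⟨c, rfl⟩ := ha; intro w; exact h1 w b c

/-- An element of the diagonal ideal with vanishing differential lies in the square. -/
theorem mem_sq_of_tensorProductTo_eq_zero {z : A ⊗[k] A} (hz : LinearMap.mul' k A z = 0)
    (h : (KaehlerDifferential.D k A).tensorProductTo z = 0) : z ∈ KaehlerDifferential.ideal k A ^ 2 := by
  have hmem : z ∈ KaehlerDifferential.ideal k A := hz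
  have h' := KaehlerDifferential.D_tensorProductTo (⟨z, hmem⟩ : KaehlerDifferential.ideal k A)
  rw [show (KaehlerDifferential.D k A).tensorProductTo
    ((⟨z, hmem⟩ : KaehlerDifferential.ideal k A) : A ⊗[k] A) = 0 from h] at h'
  exact (Ideal.toCotangent_eq_zero _ _).1 h'.symm

theorem exact_sym3 [CharZero k] (r : A ⊗[k] (A ⊗[k] A) →ₗ[k] A ⊗[k] A)
    (hr : ∀ a b c : A, r (a ⊗ₜ[k] (b ⊗ₜ[k] c)) = (a * b) ⊗ₜ[k] c)
    (D : A ⊗[k] A →ₗ[k] Ω[A⁄k])
    (hD : ∀ a b : A, D (a ⊗ₜ[k] b) =
      (2 : A) • (a • KaehlerDifferential.D k A b) - b • KaehlerDifferential.D k A a) :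
    (∀ y : A ⊗[k] A, D y = 0 ↔ ∃ x : A ⊗[k] (A ⊗[k] A),
        TensorProduct.leftComm k A A A x = x ∧
        LinearMap.lTensor A (TensorProduct.comm k A A).toLinearMap x = x ∧ r x = y) ∧
    Function.Surjective D := by
  set d := KaehlerDifferential.D k A
  set θ := d.tensorProductTo
  set s1 := (TensorProduct.leftComm k A A A).toLinearMap
  set s2 := LinearMap.lTensor A (TensorProduct.comm k A A).toLinearMap
  set Inv : Submodule k (A ⊗[k] (A ⊗[k] A)) := LinearMap.ker (s1 - LinearMap.id) ⊓ LinearMap.ker (s2 - LinearMap.id)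
  have hInv : ∀ x, x ∈ Inv ↔ s1 x = x ∧ s2 x = x := fun x => by simp [Inv, sub_eq_zero]
  set W := Inv.map r
  have hgen : ∀ a b c : A, (a * b) ⊗ₜ[k] c + (b * c) ⊗ₜ a + (a * c) ⊗ₜ b ∈ W := fun a b c => by
    refine ⟨(2 : k)⁻¹ • (a ⊗ₜ (b ⊗ₜ c) + a ⊗ₜ (c ⊗ₜ b) + b ⊗ₜ (a ⊗ₜ c) + b ⊗ₜ (c ⊗ₜ a) + c ⊗ₜ (a ⊗ₜ b) + c ⊗ₜ (b ⊗ₜ a)),
      ?_, ?_⟩
    · refine Inv.smul_mem _ ((hInv _).2 ⟨?_, ?_⟩) <;> simp [s1, s2] <;> abel
    · simp only [map_smul, map_add, hr, mul_comm c a, mul_comm b a, mul_comm c b]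
      module
  have hsq : ∀ z ∈ KaehlerDifferential.ideal k A ^ 2, z ∈ W := fun z hz => sq_le W (fun x b c => by
    have h1 := hgen (b * c) x 1
    have h2 := hgen x b c
    have h : sqGen (k := k) x b c = ((b * c * x) ⊗ₜ[k] (1 : A) + (x * 1) ⊗ₜ (b * c) + (b * c * 1) ⊗ₜ x) -
        ((x * b) ⊗ₜ c + (b * c) ⊗ₜ x + (x * c) ⊗ₜ b) := by
      simp only [sqGen, mul_one]
      rw [show b * c * x = x * b * c by ring]
      abel
    rw [h]
    exact sub_mem h1 h2) hz
  have hzero : ∀ x ∈ Inv, D (r x) = 0 := fun x hx => by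
    obtain ⟨e1, e2⟩ := (hInv x).1 hx
    have h : D.comp r + (D.comp r).comp (s1.comp s2) + (D.comp r).comp (s1.comp (s2.comp (s1.comp s2))) = 0 := by
      refine TensorProduct.ext' fun a t => ?_
      induction t using TensorProduct.induction_on with
      | zero => simp
      | add u v hu hv => rw [TensorProduct.tmul_add, map_add, hu, hv, map_add]
      | tmul b c =>
          simp [s1, s2, hr, hD, Derivation.leibniz, smul_add, smul_smul, ← two_smul A]
          module
    have h' := LinearMap.congr_fun h x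
    simp only [LinearMap.add_apply, LinearMap.comp_apply, e2, e1, LinearMap.zero_apply] at h'
    have h3 : (3 : k) • D (r x) = 0 := by
      rw [show (3 : k) = 1 + 1 + 1 by norm_num, add_smul, add_smul, one_smul]
      exact h'
    exact (smul_eq_zero.1 h3).resolve_left (by norm_num)
  have hθ : ∀ y, D y = θ ((3 : k) • y - (1 : A) ⊗ₜ LinearMap.mul' k A y) := fun y => by
    induction y using TensorProduct.induction_on with
    | zero => simp
    | add u v hu hv => simp only [map_add, hu, hv, smul_add, TensorProduct.tmul_add, map_sub]; abel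
    | tmul a b =>
        rw [hD, map_sub, LinearMap.map_smul_of_tower, LinearMap.mul'_apply]
        simp only [θ, Derivation.tensorProductTo_tmul, one_smul, Derivation.leibniz, d]
        rw [show (2 : A) = 1 + 1 by norm_num, add_smul, one_smul, show (3 : k) = 1 + 1 + 1 by norm_num]
        simp only [add_smul, one_smul]
        abel
  refine ⟨fun y => ⟨fun hy => ?_, ?_⟩, fun ω => ?_⟩
  · set c := LinearMap.mul' k A y
    set z := (3 : k) • y - (1 : A) ⊗ₜ c - (2 : k) • (c ⊗ₜ[k] (1 : A)) with hzdef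
    have hz : LinearMap.mul' k A z = 0 := by
      simp only [hzdef, map_sub, map_smul, LinearMap.mul'_apply, one_mul, mul_one, ← show c = LinearMap.mul' k A y from rfl]
      module
    have hθz : θ z = 0 := by
      rw [hzdef, map_sub, ← hθ, hy, LinearMap.map_smul_of_tower]
      simp [θ, Derivation.tensorProductTo_tmul]
    have h1 : (1 : A) ⊗ₜ[k] c + (2 : k) • (c ⊗ₜ[k] (1 : A)) ∈ W := by
      have h : (1 : A) ⊗ₜ[k] c + (2 : k) • (c ⊗ₜ[k] (1 : A)) =
          (c * 1) ⊗ₜ[k] (1 : A) + ((1 : A) * 1) ⊗ₜ c + (c * 1) ⊗ₜ (1 : A) := by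
        rw [mul_one, mul_one, two_smul]; abel
      rw [h]
      exact hgen c 1 1
    have h3 : (3 : k) • y ∈ W := by
      have h := add_mem (hsq z (mem_sq_of_tensorProductTo_eq_zero hz hθz)) h1
      rwa [hzdef, sub_sub, sub_add_cancel] at h
    obtain ⟨x, hx, hxy⟩ := (Submodule.smul_mem_iff W (by norm_num : (3 : k) ≠ 0)).1 h3
    exact ⟨x, ((hInv x).1 hx).1, ((hInv x).1 hx).2, hxy⟩
  · rintro ⟨x, e1, e2, rfl⟩
    exact hzero x ((hInv x).2 ⟨e1, e2⟩)
  · obtain ⟨z, rfl⟩ := KaehlerDifferential.tensorProductTo_surjective k A ω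
    refine ⟨(3 : k)⁻¹ • (z - LinearMap.mul' k A z ⊗ₜ 1), ?_⟩
    have hm : LinearMap.mul' k A (z - LinearMap.mul' k A z ⊗ₜ 1) = 0 := by
      rw [map_sub, LinearMap.mul'_apply, mul_one, sub_self]
    rw [hθ, map_smul (LinearMap.mul' k A), hm, smul_zero, TensorProduct.tmul_zero, sub_zero, smul_smul,
      mul_inv_cancel₀ (by norm_num : (3 : k) ≠ 0), one_smul]
    simp [θ, d, Derivation.tensorProductTo_tmul]

theorem exact_transposition [CharZero k] (r₁₂ r₂₃ : A ⊗[k] (A ⊗[k] A) →ₗ[k] A ⊗[k] A)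
    (h₁₂ : ∀ a u v : A, r₁₂ (a ⊗ₜ[k] (u ⊗ₜ[k] v)) = (a * u) ⊗ₜ[k] v)
    (h₂₃ : ∀ a u v : A, r₂₃ (a ⊗ₜ[k] (u ⊗ₜ[k] v)) = (u * v) ⊗ₜ[k] a)
    (ψ : (A ⊗[k] A) × (A ⊗[k] A) →ₗ[k] Ω[A⁄k])
    (hψ : ∀ a u b v : A, ψ (a ⊗ₜ[k] u, b ⊗ₜ[k] v) =
      (2 : A) • (a • KaehlerDifferential.D k A u) - v • KaehlerDifferential.D k A b) :
    (∀ p q : A ⊗[k] A, LinearMap.mul' k A p = LinearMap.mul' k A q →
      (ψ (p, q) = 0 ↔ ∃ x : A ⊗[k] (A ⊗[k] A),
        LinearMap.lTensor A (TensorProduct.comm k A A).toLinearMap x = x ∧ r₁₂ x = p ∧ r₂₃ x = q)) ∧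
    (∀ ω : Ω[A⁄k], ∃ p q : A ⊗[k] A, LinearMap.mul' k A p = LinearMap.mul' k A q ∧ ψ (p, q) = ω) := by
  set d := KaehlerDifferential.D k A
  set θ := d.tensorProductTo
  set s2 := LinearMap.lTensor A (TensorProduct.comm k A A).toLinearMap
  set Inv : Submodule k (A ⊗[k] (A ⊗[k] A)) := LinearMap.ker (s2 - LinearMap.id)
  have hInv : ∀ x, x ∈ Inv ↔ s2 x = x := fun x => by simp [Inv, sub_eq_zero]
  have hψ1 : ∀ p, ψ (p, 0) = (2 : k) • θ p := fun p => by
    induction p using TensorProduct.induction_on with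
    | zero => simp [show ((0 : A ⊗[k] A), (0 : A ⊗[k] A)) = 0 from rfl]
    | add u v hu hv =>
        rw [map_add, smul_add, ← hu, ← hv, ← map_add, Prod.mk_add_mk, add_zero]
    | tmul a u =>
        have h := hψ a u 0 0
        rw [TensorProduct.zero_tmul] at h
        rw [h]
        simp [θ, d, Derivation.tensorProductTo_tmul, two_smul]
  have hψ2 : ∀ q, ψ (0, q) = -θ (TensorProduct.comm k A A q) := fun q => by
    induction q using TensorProduct.induction_on with
    | zero => simp [show ((0 : A ⊗[k] A), (0 : A ⊗[k] A)) = 0 from rfl]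
    | add u v hu hv => rw [map_add, map_add, neg_add, ← hu, ← hv, ← map_add, Prod.mk_add_mk, add_zero]
    | tmul b v =>
        have h := hψ 0 0 b v
        rw [TensorProduct.zero_tmul] at h
        rw [h]
        simp [θ, d, Derivation.tensorProductTo_tmul]
  have hψ3 : ∀ p q, ψ (p, q) = (2 : k) • θ p - θ (TensorProduct.comm k A A q) := fun p q => by
    rw [show ((p, q) : _ × _) = (p, 0) + (0, q) by simp, map_add, hψ1, hψ2, ← sub_eq_add_neg]
  set sym : A ⊗[k] (A ⊗[k] A) →ₗ[k] A ⊗[k] (A ⊗[k] A) := LinearMap.id + s2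
  have hs22 : ∀ x, s2 (s2 x) = x := fun x => by
    rw [← LinearMap.comp_apply, show s2.comp s2 = LinearMap.id from TensorProduct.ext' fun a t => by simp [s2],
      LinearMap.id_apply]
  have hsym : ∀ x, sym x ∈ Inv := fun x => (hInv _).2 (by simp [sym, hs22, add_comm])
  have hzero : ∀ x ∈ Inv, ψ (r₁₂ x, r₂₃ x) = 0 := fun x hx => by
    have e := (hInv x).1 hx
    have h : (ψ.comp (r₁₂.prod r₂₃)).comp sym = 0 := by
      refine TensorProduct.ext' fun a t => ?_
      induction t using TensorProduct.induction_on with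
      | zero => rw [TensorProduct.tmul_zero, map_zero, map_zero]
      | add u v hu hv => rw [TensorProduct.tmul_add, map_add, hu, hv, map_add]
      | tmul b c =>
          simp [sym, s2, h₁₂, h₂₃, hψ3, θ, d, Derivation.tensorProductTo_tmul, Derivation.leibniz, smul_add, smul_smul,
            two_smul, mul_comm c b]
          module
    have h' := LinearMap.congr_fun h x
    simp only [sym, LinearMap.comp_apply, LinearMap.add_apply, LinearMap.id_apply, LinearMap.zero_apply, e,
      map_add, LinearMap.prod_apply, Function.prod_apply] at h'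
    rw [← two_smul k] at h'
    exact (smul_eq_zero.1 h').resolve_left (by norm_num)
  refine ⟨fun p q hpq => ⟨fun h => ?_, fun ⟨x, hx, hp, hq⟩ => hp ▸ hq ▸ hzero x ((hInv x).2 hx)⟩, fun ω => ?_⟩
  · set L : A ⊗[k] A →ₗ[k] A ⊗[k] (A ⊗[k] A) :=
      ((2 : k)⁻¹ • sym).comp (((LinearMap.lTensor A ((TensorProduct.mk k A A).flip 1))).comp (TensorProduct.comm k A A).toLinearMap)
    have hL1 : ∀ q, s2 (L q) = L q := fun q => by
      refine (hInv _).1 ?_
      simp only [L, LinearMap.comp_apply, LinearMap.smul_apply]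
      exact Inv.smul_mem _ (hsym _)
    have hL2 : ∀ q, r₂₃ (L q) = q := fun q => by
      induction q using TensorProduct.induction_on with
      | zero => simp
      | add u v hu hv => rw [map_add, map_add, hu, hv]
      | tmul b v => simp [L, sym, s2, h₂₃, ← two_smul k, smul_smul]
    have hL3 : ∀ q, LinearMap.mul' k A (r₁₂ (L q)) = LinearMap.mul' k A q := fun q => by
      induction q using TensorProduct.induction_on with
      | zero => simp
      | add u v hu hv => simp only [map_add, hu, hv]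
      | tmul b v => simp [L, sym, s2, h₁₂, mul_comm v b, ← two_smul k, smul_smul]
    set p' := p - r₁₂ (L q) with hp'
    have hm : LinearMap.mul' k A p' = 0 := by rw [hp', map_sub, hL3, hpq, sub_self]
    have hθ : θ p' = 0 := by
      have h1 := hzero (L q) ((hInv _).2 (hL1 q))
      rw [hL2] at h1
      have h2 : ψ (p', 0) = 0 := by
        rw [show ((p', 0) : _ × _) = (p, q) - (r₁₂ (L q), q) by simp [hp'], map_sub, h, h1, sub_self]
      rw [hψ1] at h2
      exact (smul_eq_zero.1 h2).resolve_left (by norm_num)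
    have hW : p' ∈ (Inv ⊓ LinearMap.ker r₂₃).map r₁₂ := sq_le _ (fun x b c => by
      refine ⟨sym (x ⊗ₜ ((b * c) ⊗ₜ 1)) - sym (x ⊗ₜ (b ⊗ₜ c)), ⟨sub_mem (hsym _) (hsym _), ?_⟩, ?_⟩
      · simp [sym, s2, h₂₃, mul_comm c b]
      · simp [sym, s2, h₁₂, sqGen]
        rw [show x * (b * c) = x * b * c by ring]
        abel) (mem_sq_of_tensorProductTo_eq_zero hm hθ)
    obtain ⟨x, ⟨hx1, hx2⟩, hxp⟩ := hW
    refine ⟨x + L q, ?_, by rw [map_add, hxp, hp', sub_add_cancel], by rw [map_add, hL2, LinearMap.mem_ker.1 hx2, zero_add]⟩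
    rw [map_add, (hInv x).1 hx1, hL1]
  · obtain ⟨z, rfl⟩ := KaehlerDifferential.tensorProductTo_surjective k A ω
    refine ⟨(2 : k)⁻¹ • (z - LinearMap.mul' k A z ⊗ₜ 1), 0, ?_, ?_⟩
    · simp
    · rw [hψ1, LinearMap.map_smul_of_tower, smul_smul, mul_inv_cancel₀ (by norm_num : (2 : k) ≠ 0), one_smul]
      simp [θ, d, Derivation.tensorProductTo_tmul]

end Groth.Agent.DiagIdealLib
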