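import Mathlib.RingTheory.Filtration
import Mathlib.RingTheory.Derivation.Basic
import Mathlib.RingTheory.TensorProduct.Finite
import Mathlib.LinearAlgebra.TensorProduct.Tower

/-!
# An Euler operator and the injectivity of `I · (I ⊗ I) → I³`

If an ideal `I` of `R` has derivations `D s` and elements `u s ∈ I` such that `f ↦ ∑ u s * D s f`
is the identity on `I / I²`, then, in characteristic zero, the multiplication
`I • (I ⊗ I) → R` is injective.
-/

open TensorProduct

namespace Groth.Agent.DiagIdealLib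

variable {R : Type*} [CommRing R] {I : Ideal R} {N : ℕ} (u : Fin N → I)
  (D : Fin N → Derivation ℤ R R)

/-- The first order Euler operator. -/
def eu (f : R) : R := ∑ s, (u s : R) * D s f

/-- The second order Euler operator. -/
def eu2 (f : R) : R := ∑ s, ∑ t, ((u t : R) * u s) * D t (D s f)

theorem eu_mem (f : R) : eu u D f ∈ I :=
  I.sum_mem fun s _ => I.mul_mem_right _ (u s).2

theorem eu2_mem (f : R) : eu2 u D f ∈ I :=
  I.sum_mem fun s _ => I.sum_mem fun t _ => I.mul_mem_right _ (I.mul_mem_right _ (u t).2)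

theorem eu_add (f g : R) : eu u D (f + g) = eu u D f + eu u D g := by
  simp [eu, mul_add, Finset.sum_add_distrib]

theorem eu_sub (f g : R) : eu u D (f - g) = eu u D f - eu u D g := by
  simp [eu, mul_sub, Finset.sum_sub_distrib]

theorem eu_mul (f g : R) : eu u D (f * g) = f * eu u D g + g * eu u D f := by
  simp only [eu, Derivation.leibniz, smul_eq_mul, mul_add, Finset.sum_add_distrib, Finset.mul_sum]
  congr 1 <;> exact Finset.sum_congr rfl fun s _ => by ring

theorem deriv_mem_pow (s : Fin N) (n : ℕ) {f : R} (hf : f ∈ I ^ (n + 1)) : D s f ∈ I ^ n := by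
  induction n generalizing f with
  | zero => simp
  | succ n ih =>
    rw [pow_succ] at hf
    induction hf using Submodule.mul_induction_on' with
    | mem_mul_mem a ha b hb =>
      rw [Derivation.leibniz, smul_eq_mul, smul_eq_mul]
      refine add_mem (Ideal.mul_mem_right _ _ ha) ?_
      rw [pow_succ']
      exact Ideal.mul_mem_mul hb (ih ha)
    | add a _ b _ ha hb => rw [map_add]; exact add_mem ha hb

variable (hE : ∀ f ∈ I, eu u D f - f ∈ I ^ 2)
include hE

theorem eu_sub_nat_mul (n : ℕ) {f : R} (hf : f ∈ I ^ n) :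
    eu u D f - (n : R) * f ∈ I ^ (n + 1) := by
  induction n generalizing f with
  | zero => simpa using eu_mem u D f
  | succ n ih =>
    rw [pow_succ] at hf
    induction hf using Submodule.mul_induction_on' with
    | mem_mul_mem a ha b hb =>
      have e : eu u D (a * b) - ((n + 1 : ℕ) : R) * (a * b) =
          (eu u D a - (n : R) * a) * b + a * (eu u D b - b) := by
        rw [eu_mul]; push_cast; ring
      rw [e]
      refine add_mem ?_ ?_
      · rw [pow_succ]; exact Ideal.mul_mem_mul (ih ha) hb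
      · rw [show n + 1 + 1 = n + 2 from rfl, pow_add]
        exact Ideal.mul_mem_mul ha (hE b hb)
    | add a _ b _ ha hb =>
      have e : eu u D (a + b) - ((n + 1 : ℕ) : R) * (a + b) =
          (eu u D a - ((n + 1 : ℕ) : R) * a) + (eu u D b - ((n + 1 : ℕ) : R) * b) := by
        rw [eu_add]; ring
      rw [e]; exact add_mem ha hb

theorem eu2_sub_nat_mul (n : ℕ) {f : R} (hf : f ∈ I ^ (n + 1)) :
    eu2 u D f - (((n + 1) * n : ℕ) : R) * f ∈ I ^ (n + 2) := by
  have e2 : eu u D (eu u D f) = eu2 u D f + ∑ s, eu u D (u s : R) * D s f := by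
    rw [eu2]
    conv_rhs => rw [← Finset.sum_add_distrib]
    simp only [eu, map_sum, Derivation.leibniz, smul_eq_mul, mul_add, Finset.mul_sum,
      Finset.sum_mul, Finset.sum_add_distrib]
    rw [Finset.sum_comm]
    congr 1
    · exact Finset.sum_congr rfl fun s _ => Finset.sum_congr rfl fun t _ => by ring
    · rw [Finset.sum_comm]
      exact Finset.sum_congr rfl fun s _ => Finset.sum_congr rfl fun t _ => by ring
  have hs : ∑ s, eu u D (u s : R) * D s f - eu u D f ∈ I ^ (n + 2) := by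
    rw [eu, ← Finset.sum_sub_distrib]
    refine (I ^ (n + 2)).sum_mem fun s _ => ?_
    rw [← sub_mul, show n + 2 = 2 + n by omega, pow_add]
    exact Ideal.mul_mem_mul (hE _ (u s).2) (deriv_mem_pow D s n hf)
  have h1 := eu_sub_nat_mul u D hE (n + 1) hf
  have hne : ((n + 1 : ℕ) : R) * f ∈ I ^ (n + 1) := Ideal.mul_mem_left _ _ hf
  have h2 := eu_sub_nat_mul u D hE (n + 1) hne
  have h3 : eu u D (eu u D f - ((n + 1 : ℕ) : R) * f) ∈ I ^ (n + 2) := by
    have := Ideal.pow_le_pow_right (show n + 2 ≤ n + 2 + 1 by omega) (eu_sub_nat_mul u D hE (n + 2) h1)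
    exact (Submodule.sub_mem_iff_left _ (Ideal.mul_mem_left _ _ h1)).mp this
  rw [eu_sub] at h3
  have e : eu2 u D f - (((n + 1) * n : ℕ) : R) * f =
      (eu u D (eu u D f) - eu u D (((n + 1 : ℕ) : R) * f)) +
      (eu u D (((n + 1 : ℕ) : R) * f) - ((n + 1 : ℕ) : R) * (((n + 1 : ℕ) : R) * f)) -
      (∑ s, eu u D (u s : R) * D s f - eu u D f) -
      (eu u D f - ((n + 1 : ℕ) : R) * f) := by
    rw [e2]; push_cast; ring
  rw [e]
  exact sub_mem (sub_mem (add_mem h3 h2) hs) h1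

omit hE

/-- The multiplication of `I ⊗ I`. -/
noncomputable def mu (I : Ideal R) : I ⊗[R] I →ₗ[R] R :=
  TensorProduct.lift ((LinearMap.mul R R).compl₁₂ I.subtype I.subtype)

@[simp] theorem mu_tmul (g h : I) : mu I (g ⊗ₜ[R] h) = (g : R) * h := rfl

theorem smul_tmul_eq (f : R) (hf : f ∈ I) (p q : I) :
    f • (p ⊗ₜ[R] q) = (⟨f, hf⟩ : I) ⊗ₜ[R] ((p : R) • q) := by
  rw [TensorProduct.smul_tmul', show f • p = (p : R) • (⟨f, hf⟩ : I) from Subtype.ext (mul_comm _ _),
    TensorProduct.smul_tmul]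

theorem smul_tmul_eq' (f : R) (hf : f ∈ I) (p q : I) :
    f • (p ⊗ₜ[R] q) = ((q : R) • p) ⊗ₜ[R] (⟨f, hf⟩ : I) := by
  rw [← TensorProduct.tmul_smul, show f • q = (q : R) • (⟨f, hf⟩ : I) from Subtype.ext (mul_comm _ _),
    TensorProduct.smul_tmul]

theorem tmul_mem_pow_smul (j : ℕ) (g h : I) (hg : (g : R) ∈ I ^ (j + 1)) :
    g ⊗ₜ[R] h ∈ I ^ j • (⊤ : Submodule R (I ⊗[R] I)) := by
  suffices H : ∀ x ∈ I ^ (j + 1), ∃ hx : x ∈ I, (⟨x, hx⟩ : I) ⊗ₜ[R] h ∈
      I ^ j • (⊤ : Submodule R (I ⊗[R] I)) from (H g hg).2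
  intro x hx
  rw [pow_succ] at hx
  induction hx using Submodule.mul_induction_on' with
  | mem_mul_mem a ha b hb =>
    refine ⟨I.mul_mem_left _ hb, ?_⟩
    rw [show (⟨a * b, I.mul_mem_left _ hb⟩ : I) = a • (⟨b, hb⟩ : I) from rfl,
      ← TensorProduct.smul_tmul']
    exact Submodule.smul_mem_smul ha trivial
  | add a _ b _ ha hb =>
    obtain ⟨ha, ha'⟩ := ha
    obtain ⟨hb, hb'⟩ := hb
    refine ⟨I.add_mem ha hb, ?_⟩
    rw [show (⟨a + b, I.add_mem ha hb⟩ : I) = ⟨a, ha⟩ + ⟨b, hb⟩ from rfl, TensorProduct.add_tmul]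
    exact add_mem ha' hb'

theorem tmul_comm_of_mem_sq (g h : I) (hg : (g : R) ∈ I ^ 2) : g ⊗ₜ[R] h = h ⊗ₜ[R] g := by
  suffices H : ∀ x ∈ I ^ 2, ∃ hx : x ∈ I, (⟨x, hx⟩ : I) ⊗ₜ[R] h = h ⊗ₜ[R] (⟨x, hx⟩ : I) from
    (H g hg).2
  intro x hx
  rw [sq] at hx
  induction hx using Submodule.mul_induction_on' with
  | mem_mul_mem a ha b hb =>
    refine ⟨I.mul_mem_left _ hb, ?_⟩
    rw [show (⟨a * b, I.mul_mem_left _ hb⟩ : I) = a • (⟨b, hb⟩ : I) from rfl]
    calc (a • (⟨b, hb⟩ : I)) ⊗ₜ[R] h = a • ((⟨b, hb⟩ : I) ⊗ₜ[R] h) := (TensorProduct.smul_tmul' ..).symm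
      _ = ((h : R) • (⟨b, hb⟩ : I)) ⊗ₜ[R] (⟨a, ha⟩ : I) := smul_tmul_eq' a ha _ _
      _ = (b • h) ⊗ₜ[R] (⟨a, ha⟩ : I) := by
        rw [show b • h = (h : R) • (⟨b, hb⟩ : I) from Subtype.ext (mul_comm _ _)]
      _ = h ⊗ₜ[R] (b • (⟨a, ha⟩ : I)) := TensorProduct.smul_tmul ..
      _ = h ⊗ₜ[R] (a • (⟨b, hb⟩ : I)) := by
        rw [show b • (⟨a, ha⟩ : I) = a • (⟨b, hb⟩ : I) from Subtype.ext (mul_comm _ _)]
  | add a _ b _ ha hb =>
    obtain ⟨ha, ha'⟩ := ha
    obtain ⟨hb, hb'⟩ := hb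
    refine ⟨I.add_mem ha hb, ?_⟩
    rw [show (⟨a + b, I.add_mem ha hb⟩ : I) = ⟨a, ha⟩ + ⟨b, hb⟩ from rfl, TensorProduct.add_tmul,
      TensorProduct.tmul_add, ha', hb']

/-- The inverse, up to a scalar and higher order terms, of the multiplication. -/
noncomputable def inv2 (F : R) : I ⊗[R] I := ∑ s, ∑ t, D t (D s F) • (u t ⊗ₜ[R] u s)

theorem inv2_mul (g h : I) :
    inv2 u D ((g : R) * h) =
      g ⊗ₜ[R] (⟨eu2 u D h, eu2_mem u D _⟩ : I) +
      h ⊗ₜ[R] (⟨eu2 u D g, eu2_mem u D _⟩ : I) +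
      ((⟨eu u D g, eu_mem u D g⟩ : I) ⊗ₜ[R] (⟨eu u D h, eu_mem u D h⟩ : I) +
      (⟨eu u D h, eu_mem u D h⟩ : I) ⊗ₜ[R] (⟨eu u D g, eu_mem u D g⟩ : I)) := by
  classical
  have hp : ∀ (g : I) (X : R) (p q : I),
      ((g : R) * X) • (p ⊗ₜ[R] q) = g ⊗ₜ[R] ((X * p) • q) := by
    intro g X p q
    rw [mul_comm (g : R) X, mul_smul, smul_tmul_eq (g : R) g.2 p q, Subtype.coe_eta,
      ← TensorProduct.tmul_smul, smul_smul]
  have he : ∀ f : R, (⟨eu u D f, eu_mem u D f⟩ : I) = ∑ s, D s f • u s := fun f =>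
    Subtype.ext (by simp [eu, mul_comm])
  have he2 : ∀ (f : R) (hf : eu2 u D f ∈ I), (⟨eu2 u D f, hf⟩ : I) =
      ∑ s, ∑ t, (D t (D s f) * u t) • u s := fun f hf =>
    Subtype.ext (by
      simp only [eu2, Submodule.coe_sum, SetLike.val_smul, smul_eq_mul]
      exact Finset.sum_congr rfl fun s _ => Finset.sum_congr rfl fun t _ => by ring)
  have key : ∀ s t : Fin N, D t (D s ((g : R) * h)) • (u t ⊗ₜ[R] u s) =
      g ⊗ₜ[R] ((D t (D s (h : R)) * u t) • u s) + h ⊗ₜ[R] ((D t (D s (g : R)) * u t) • u s) +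
      ((D t (g : R) • u t) ⊗ₜ[R] (D s (h : R) • u s) +
        (D t (h : R) • u t) ⊗ₜ[R] (D s (g : R) • u s)) := by
    intro s t
    simp only [Derivation.leibniz, smul_eq_mul, map_add, add_smul, hp,
      TensorProduct.smul_tmul_smul]
    rw [mul_comm (D t (g : R)) (D s (h : R)), mul_comm (D t (h : R)) (D s (g : R))]
    abel
  rw [he2 (g : R) _, he2 (h : R) _]
  simp only [inv2, key, Finset.sum_add_distrib, he, TensorProduct.tmul_sum,
    TensorProduct.sum_tmul]


variable {u D}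

include hE

/-- The injectivity. -/
theorem eq_zero_of_mu_eq_zero [IsNoetherianRing R] (hnat : ∀ n : ℕ, n ≠ 0 → IsUnit (n : R))
    {z : I ⊗[R] I} (hz : z ∈ I • (⊤ : Submodule R (I ⊗[R] I))) (h0 : mu I z = 0) : z = 0 := by
  have hL : ∀ m : ℕ, ∀ y ∈ I ^ (m + 1) • (⊤ : Submodule R (I ⊗[R] I)),
      inv2 u D (mu I y) - (((m + 2) * (m + 3) : ℕ) : R) • y ∈
        I ^ (m + 2) • (⊤ : Submodule R (I ⊗[R] I)) := by
    intro m y hy
    have hzero : inv2 u D (0 : R) = 0 := by simp [inv2]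
    have hadd : ∀ a b : R, inv2 u D (a + b) = inv2 u D a + inv2 u D b := fun a b => by
      simp [inv2, add_smul, Finset.sum_add_distrib]
    refine Submodule.smul_induction_on hy (fun r hr w hw => ?_) ?_
    · clear hw
      induction w with
      | zero => simp [hzero]
      | add a b ha hb =>
        rw [smul_add, map_add, hadd, smul_add, add_sub_add_comm]; exact add_mem ha hb
      | tmul g h =>
        rw [TensorProduct.smul_tmul']
        set G := r • g with hG
        have hGp : (G : R) ∈ I ^ (m + 2) := by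
          rw [hG, pow_succ]; exact Ideal.mul_mem_mul hr g.2
        have hG2 : (G : R) ∈ I ^ 2 := Ideal.pow_le_pow_right (by omega) hGp
        rw [mu_tmul, inv2_mul]
        set E := fun f : R => (⟨eu u D f, eu_mem u D f⟩ : I)
        have hcomm := tmul_comm_of_mem_sq G h hG2
        have t1 : ∀ k : I, (k : R) ∈ I ^ 2 → G ⊗ₜ[R] k ∈
            I ^ (m + 2) • (⊤ : Submodule R (I ⊗[R] I)) := by
          intro k hk
          suffices H : ∀ x ∈ I ^ 2, ∃ hx : x ∈ I, G ⊗ₜ[R] (⟨x, hx⟩ : I) ∈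
              I ^ (m + 2) • (⊤ : Submodule R (I ⊗[R] I)) from (H k hk).2
          intro x hx
          rw [sq] at hx
          induction hx using Submodule.mul_induction_on' with
          | mem_mul_mem a ha b hb =>
            refine ⟨I.mul_mem_left _ hb, ?_⟩
            rw [show (⟨a * b, I.mul_mem_left _ hb⟩ : I) = a • (⟨b, hb⟩ : I) from rfl,
              ← TensorProduct.smul_tmul]
            exact tmul_mem_pow_smul (m + 2) _ _ (by
              rw [pow_succ']; exact Ideal.mul_mem_mul ha hGp)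
          | add a _ b _ ha hb =>
            obtain ⟨ha, ha'⟩ := ha
            obtain ⟨hb, hb'⟩ := hb
            refine ⟨I.add_mem ha hb, ?_⟩
            rw [show (⟨a + b, I.add_mem ha hb⟩ : I) = ⟨a, ha⟩ + ⟨b, hb⟩ from rfl,
              TensorProduct.tmul_add]
            exact add_mem ha' hb'
        have t2 : ∀ k l : I, (k : R) ∈ I ^ (m + 3) → k ⊗ₜ[R] l ∈
            I ^ (m + 2) • (⊤ : Submodule R (I ⊗[R] I)) ∧ l ⊗ₜ[R] k ∈
            I ^ (m + 2) • (⊤ : Submodule R (I ⊗[R] I)) := by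
          intro k l hk
          refine ⟨tmul_mem_pow_smul _ _ _ hk, ?_⟩
          rw [← tmul_comm_of_mem_sq k l (Ideal.pow_le_pow_right (by omega) hk)]
          exact tmul_mem_pow_smul _ _ _ hk
        have a1 := eu2_sub_nat_mul u D hE (m + 1) hGp
        have a2 := eu2_sub_nat_mul u D hE 0 (f := (h : R)) (by rw [zero_add, pow_one]; exact h.2)
        have a3 := eu_sub_nat_mul u D hE (m + 2) hGp
        have a4 := hE _ h.2
        simp only [zero_add, one_mul, Nat.cast_zero, zero_mul, sub_zero, mul_zero] at a2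
        let e2G : I := ⟨eu2 u D (G : R), eu2_mem u D _⟩
        let d1 : I := e2G - ((((m + 1) + 1) * (m + 1) : ℕ) : R) • G
        let d3 : I := E G - ((m + 2 : ℕ) : R) • G
        let d4 : I := E h - h
        have hd3 : (d3 : R) ∈ I ^ (m + 3) := a3
        have hd1 : (d1 : R) ∈ I ^ (m + 3) := a1
        have hd4 : (d4 : R) ∈ I ^ 2 := a4
        have eG : E G = ((m + 2 : ℕ) : R) • G + d3 := by simp [d3]
        have eh : E h = h + d4 := by simp [d4]
        have e1 : e2G = ((((m + 1) + 1) * (m + 1) : ℕ) : R) • G + d1 := by simp [d1]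
        have hGd4 := t1 d4 hd4
        have hd4G : d4 ⊗ₜ[R] G ∈ I ^ (m + 2) • (⊤ : Submodule R (I ⊗[R] I)) := by
          rw [← tmul_comm_of_mem_sq G d4 hG2]; exact hGd4
        change _ + h ⊗ₜ[R] e2G + (E G ⊗ₜ[R] E h + E h ⊗ₜ[R] E G) - _ ∈ _
        rw [e1, TensorProduct.tmul_add, TensorProduct.tmul_smul, ← hcomm]
        have x1 : E G ⊗ₜ[R] E h = ((m + 2 : ℕ) : R) • (G ⊗ₜ[R] h) +
            (((m + 2 : ℕ) : R) • (G ⊗ₜ[R] d4) + d3 ⊗ₜ[R] E h) := by
          rw [eG, TensorProduct.add_tmul, ← TensorProduct.smul_tmul', ← add_assoc, ← smul_add,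
            ← TensorProduct.tmul_add, ← eh]
        have x2 : E h ⊗ₜ[R] E G = ((m + 2 : ℕ) : R) • (G ⊗ₜ[R] h) +
            (((m + 2 : ℕ) : R) • (d4 ⊗ₜ[R] G) + E h ⊗ₜ[R] d3) := by
          rw [eG, TensorProduct.tmul_add, TensorProduct.tmul_smul, hcomm, ← add_assoc, ← smul_add,
            ← TensorProduct.add_tmul, ← eh]
        rw [x1, x2]
        convert add_mem (add_mem (t1 ⟨eu2 u D (h : R), eu2_mem u D _⟩ a2)
          (t2 d1 h hd1).2) (add_mem (add_mem (Submodule.smul_mem _ ((m + 2 : ℕ) : R) hGd4)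
          (t2 d3 (E h) hd3).1) (add_mem (Submodule.smul_mem _ ((m + 2 : ℕ) : R) hd4G)
          (t2 d3 (E h) hd3).2)) using 1
        push_cast
        module
    · intro a b ha hb
      rw [map_add, hadd, smul_add, add_sub_add_comm]; exact add_mem ha hb
  have hmem : ∀ m : ℕ, z ∈ I ^ (m + 1) • (⊤ : Submodule R (I ⊗[R] I)) := by
    intro m
    induction m with
    | zero => simpa using hz
    | succ m ih =>
      have h := hL m z ih
      rw [h0, show inv2 u D (0 : R) = 0 by simp [inv2], zero_sub, neg_mem_iff] at h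
      exact (Submodule.smul_mem_iff_of_isUnit _ (hnat _ (by positivity))).mp h
  haveI : Module.Finite R I := Module.Finite.of_fg (IsNoetherian.noetherian I)
  obtain ⟨r, hr⟩ := (Ideal.mem_iInf_smul_pow_eq_bot_iff I z).mp ((Submodule.mem_iInf _).mpr fun i => by
    rcases i with _ | m
    · simp
    · exact hmem m)
  have hkill : ∀ (i j : I) (w : I ⊗[R] I), ((i : R) * j) • w = mu I w • (i ⊗ₜ[R] j) := by
    intro i j w
    induction w with
    | zero => simp
    | add a b ha hb => simp [smul_add, add_smul, ha, hb]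
    | tmul g h =>
      rw [mu_tmul, ← TensorProduct.smul_tmul_smul, ← TensorProduct.smul_tmul_smul]
      congr 1 <;> exact Subtype.ext (mul_comm _ _)
  have := hkill r r z
  rw [h0, zero_smul, mul_smul, hr, hr] at this
  exact this

end Groth.Agent.DiagIdealLib
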